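import Groth.Agent.PicfLib.AutDer.Key

/-! The family of automorphisms given by a derivation and an element of square zero. -/

set_option autoImplicit false
set_option backward.isDefEq.respectTransparency false
set_option backward.isDefEq.respectTransparency.types false

universe u

open CategoryTheory MonoidalCategory CartesianMonoidalCategory AlgebraicGeometry Opposite

namespace Groth.Agent.PicfLib.AutDer

noncomputable section

variable {k : Type u} [Field k] {X T : Over (Spec (CommRingCat.of k))}
variable (D : OmegaSh.Der X.hom (Coh.structureModule X.left))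

/-- The value of a derivation on a function. -/
def val (U : X.left.Opens) : Γ(X.left, U) →+ Γ(X.left, U) :=
  AddMonoidHom.mk' (fun s => (show Γ(X.left, U) from D.app U s)) (map_add (D.app U))

theorem val_mul (U : X.left.Opens) (a b : Γ(X.left, U)) :
    val D U (a * b) = a * val D U b + b * val D U a := D.d_mul (X := op U) a b

theorem val_res (U V : X.left.Opens) (i : op U ⟶ op V) (a : Γ(X.left, U)) :
    val D V (X.left.presheaf.map i a) = X.left.presheaf.map i (val D U a) := D.d_map (X := op U) (Y := op V) i a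

theorem val_app (V : (Spec (CommRingCat.of k)).Opens) (a : Γ(Spec (CommRingCat.of k), V)) :
    val D (X.hom ⁻¹ᵁ V) (X.hom.app V a) = 0 := D.d_app (X := op V) a

theorem val_one (U : X.left.Opens) : val D U 1 = 0 := D.d_one (op U)

variable (η : Γ(T.left, ⊤)) (hη : η * η = 0)

/-- `s ↦ s + η D s`. -/
def shiftRingHom (U : X.left.Opens) : Γ(X.left, U) →+* Γ((X ⊗ T).left, pr X T ⁻¹ᵁ U) where
  toFun s := (iA X T U).hom s + (iB X T U).hom η * (iA X T U).hom (val D U s)
  map_zero' := by rw [map_zero (val D U), map_zero (iA X T U).hom, mul_zero, add_zero]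
  map_one' := by rw [val_one, map_zero (iA X T U).hom, mul_zero, add_zero, map_one (iA X T U).hom]
  map_add' a b := by simp only [map_add]; ring
  map_mul' a b := by
    have h : (iB X T U).hom η * (iB X T U).hom η = 0 := by rw [← map_mul, hη, map_zero]
    simp only [val_mul, map_mul, map_add]
    linear_combination -(iA X T U).hom (val D U a) * (iA X T U).hom (val D U b) * h

theorem shiftRingHom_apply (U : X.left.Opens) (s : Γ(X.left, U)) :
    shiftRingHom D η hη U s = (iA X T U).hom s + (iB X T U).hom η * (iA X T U).hom (val D U s) := rfl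

/-- The map of sheaves `s ↦ s + η D s`. -/
def shiftC : X.left.presheaf ⟶ (pr X T).base _* (X ⊗ T).left.presheaf where
  app U := CommRingCat.ofHom (shiftRingHom D η hη U.unop)
  naturality U V i := by
    ext s
    show shiftRingHom D η hη V.unop (X.left.presheaf.map i s) =
      (X ⊗ T).left.presheaf.map (homOfLE ((pr X T).preimage_mono i.unop.le)).op (shiftRingHom D η hη U.unop s)
    rw [shiftRingHom_apply, shiftRingHom_apply, map_add, map_mul, val_res]
    refine congrArg₂ (· + ·) (congr($(iA_res _ _ i) s)).symm ?_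
    exact congrArg₂ (· * ·) (congr($(iB_res _ _ i) η)).symm (congr($(iA_res _ _ i) (val D U.unop s))).symm

/-- The morphism with the map of spaces of the projection and `s ↦ s + η D s` on functions. -/
def shift : (X ⊗ T).left ⟶ X.left :=
  Scheme.Hom.mk ⟨⟨(pr X T).base, shiftC D η hη⟩, fun x => ⟨fun a ha => by
    obtain ⟨U, hxU, s, rfl⟩ := X.left.presheaf.exists_germ_eq (x := (pr X T) x) a
    have h1 := PresheafedSpace.stalkMap_germ_apply
      (⟨(pr X T).base, shiftC D η hη⟩ : (X ⊗ T).left.toPresheafedSpace ⟶ X.left.toPresheafedSpace) U x hxU s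
    replace ha : IsUnit ((X ⊗ T).left.presheaf.germ (pr X T ⁻¹ᵁ U) x hxU (shiftRingHom D η hη U s)) := h1 ▸ ha
    rw [shiftRingHom_apply, map_add, map_mul] at ha
    set n := (X ⊗ T).left.presheaf.germ (pr X T ⁻¹ᵁ U) x hxU ((iB X T U).hom η) *
      (X ⊗ T).left.presheaf.germ (pr X T ⁻¹ᵁ U) x hxU ((iA X T U).hom (val D U s)) with hn
    have hnil : IsNilpotent n := by
      refine ⟨2, ?_⟩
      rw [hn, mul_pow, pow_two, ← map_mul, ← map_mul, hη, map_zero, map_zero, zero_mul]
    have h2 := hnil.neg.isUnit_add_left_of_commute ha (Commute.all _ _)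
    rw [add_neg_cancel_right] at h2
    refine (isUnit_map_iff ((pr X T).stalkMap x).hom _).1 ?_
    convert h2 using 1
    refine ((pr X T).germ_stalkMap_apply U x hxU s).trans ?_
    simp [iA, Scheme.Hom.app_eq_appLE]⟩⟩

theorem shift_apply (x : (X ⊗ T).left) : shift D η hη x = pr X T x := rfl

theorem shift_appLE (U : X.left.Opens) :
    (shift D η hη).appLE U (pr X T ⁻¹ᵁ U) (le_refl (shift D η hη ⁻¹ᵁ U)) = CommRingCat.ofHom (shiftRingHom D η hη U) := by
  exact (Scheme.Hom.app_eq_appLE (f := shift D η hη) (U := U)).symm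

theorem shift_comp_hom : shift D η hη ≫ X.hom = (X ⊗ T).hom := by
  apply ext_of_isAffine
  ext a
  show shiftRingHom D η hη (X.hom ⁻¹ᵁ ⊤) (X.hom.app ⊤ a) = _
  rw [shiftRingHom_apply, val_app, map_zero, mul_zero, add_zero, ← Over.w (fst X T)]
  simp [iA, Scheme.Hom.app_eq_appLE]

/-- `shift` as a family. -/
def shiftFam : X ⊗ T ⟶ X := Over.homMk (shift D η hη) (shift_comp_hom D η hη)

include hη in
theorem endOf_comp_shiftFam (hη' : (-η) * (-η) = 0) :
    AutSch.endOf (shiftFam D η hη) ≫ shiftFam D (-η) hη' = fst X T := by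
  set e := AutSch.endOf (shiftFam D η hη)
  have h1 : e.left ≫ pr X T = shift D η hη := congrArg CommaMorphism.left (AutSch.endOf_fst (shiftFam D η hη))
  have h2 : e.left ≫ sn X T = sn X T := congrArg CommaMorphism.left (AutSch.endOf_snd (shiftFam D η hη))
  apply Over.OverMorphism.ext
  show e.left ≫ shift D (-η) hη' = pr X T
  have hpre : ∀ U, pr X T ⁻¹ᵁ U ≤ e.left ⁻¹ᵁ (pr X T ⁻¹ᵁ U) := fun U => by
    rw [← Scheme.Hom.comp_preimage, h1]; exact le_rfl
  refine eq_pr (fun U => hpre U) fun U => ?_
  rw [← Scheme.Hom.appLE_comp_appLE e.left (shift D (-η) hη') U (pr X T ⁻¹ᵁ U) _ le_rfl (hpre U),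
    shift_appLE]
  ext s
  show (e.left.appLE _ _ (hpre U)).hom (shiftRingHom D (-η) hη' U s) = _
  have hA : ∀ t, (e.left.appLE _ _ (hpre U)).hom ((iA X T U).hom t) = shiftRingHom D η hη U t := by
    intro t
    have h : iA X T U ≫ e.left.appLE _ _ (hpre U) = CommRingCat.ofHom (shiftRingHom D η hη U) := by
      rw [← shift_appLE]; simp only [iA, Scheme.Hom.appLE_comp_appLE, h1]
    exact congr($h t)
  have hB : ∀ t, (e.left.appLE _ _ (hpre U)).hom ((iB X T U).hom t) = (iB X T U).hom t := by
    intro t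
    have h : iB X T U ≫ e.left.appLE _ _ (hpre U) = iB X T U := by
      simp only [iB, Scheme.Hom.appLE_comp_appLE, h2]
    exact congr($h t)
  rw [shiftRingHom_apply, map_add, map_mul, hA, hB, hA, shiftRingHom_apply, shiftRingHom_apply, map_neg]
  have h : (iB X T U).hom η * (iB X T U).hom η = 0 := by rw [← map_mul, hη, map_zero]
  linear_combination -(iA X T U).hom (val D U (val D U s)) * h

theorem isAutFamily_shiftFam : AutSch.IsAutFamily (shiftFam D η hη) := by
  have hη' : (-η) * (-η) = 0 := by rw [neg_mul_neg, hη]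
  refine ⟨AutSch.endOf (shiftFam D (-η) hη'), ?_, ?_⟩
  · apply CartesianMonoidalCategory.hom_ext
    · rw [Category.assoc, AutSch.endOf_fst, endOf_comp_shiftFam D η hη hη', Category.id_comp]
    · simp
  · apply CartesianMonoidalCategory.hom_ext
    · rw [Category.assoc, AutSch.endOf_fst, Category.id_comp]
      have := endOf_comp_shiftFam D (-η) hη' (by rw [neg_neg, hη])
      simpa only [neg_neg] using this
    · simp

/-- The family is constant after restriction to where `η` vanishes. -/
theorem whisker_shiftFam {T₀ : Over (Spec (CommRingCat.of k))} (j : T₀ ⟶ T)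
    (hj : j.left.appTop.hom η = 0) : X ◁ j ≫ shiftFam D η hη = fst X T₀ := by
  apply Over.OverMorphism.ext
  show (X ◁ j).left ≫ shift D η hη = pr X T₀
  have hpre : ∀ U, pr X T₀ ⁻¹ᵁ U ≤ (X ◁ j).left ⁻¹ᵁ (pr X T ⁻¹ᵁ U) := fun U => by
    rw [← Scheme.Hom.comp_preimage, whisker_pr]
  refine eq_pr (fun U => hpre U) fun U => ?_
  rw [← Scheme.Hom.appLE_comp_appLE (X ◁ j).left (shift D η hη) U (pr X T ⁻¹ᵁ U) _ le_rfl (hpre U),
    shift_appLE]
  ext s
  show ((X ◁ j).left.appLE _ _ (hpre U)).hom (shiftRingHom D η hη U s) = _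
  have hA : iA X T U ≫ (X ◁ j).left.appLE _ _ (hpre U) = iA X T₀ U := by
    simp only [iA, Scheme.Hom.appLE_comp_appLE, whisker_pr]
  have hB : iB X T U ≫ (X ◁ j).left.appLE _ _ (hpre U) = j.left.appTop ≫ iB X T₀ U := by
    simp only [iB, Scheme.Hom.appTop, Scheme.Hom.app_eq_appLE, Scheme.Hom.appLE_comp_appLE, whisker_sn]
    simp [Scheme.Hom.appLE_comp_appLE]
  have hη0 : ((X ◁ j).left.appLE _ _ (hpre U)).hom ((iB X T U).hom η) = 0 := by
    refine (congr($hB η)).trans ?_
    show (iB X T₀ U).hom (j.left.appTop.hom η) = 0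
    rw [hj, map_zero]
  rw [shiftRingHom_apply, map_add, map_mul, hη0, zero_mul, add_zero]
  exact congr($hA s)

/-- If the family is constant then the derivation is zero. -/
theorem val_eq_zero_of_shiftFam_eq [IsAffine T.left] [TopologicalSpace.NoetherianSpace ↥X.left] (hη0 : η ≠ 0)
    (h : shiftFam D η hη = fst X T) (U : X.left.Opens) (s : Γ(X.left, U)) : val D U s = 0 := by
  obtain ⟨ι, e, he⟩ := exists_coord (isField_base (k := k)) (T.hom.appLE ⊤ ⊤ (by simp))
  refine (he _ _ _ _ _ (isPushout_sections U)).2 η _ hη0 ?_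
  have h' : shift D η hη = pr X T := congrArg CommaMorphism.left h
  have key : ∀ (g : (X ⊗ T).left ⟶ X.left) (e : pr X T ⁻¹ᵁ U ≤ g ⁻¹ᵁ U), g = pr X T →
      g.appLE U (pr X T ⁻¹ᵁ U) e = iA X T U := by rintro g e rfl; rfl
  have h2 : shiftRingHom D η hη U s = (iA X T U).hom s := by
    refine (congr($(shift_appLE D η hη U) s)).symm.trans ?_
    exact congr($(key _ _ h') s)
  rw [shiftRingHom_apply, add_eq_left] at h2
  rw [mul_comm]
  exact h2

end

end Groth.Agent.PicfLib.AutDer
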