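import Groth.Agent.PicfLib.AutDer.Sections

/-! A family which is constant modulo a square-zero ideal is constant when there are no derivations. -/

set_option autoImplicit false
set_option backward.isDefEq.respectTransparency false
set_option backward.isDefEq.respectTransparency.types false

universe u

open CategoryTheory MonoidalCategory CartesianMonoidalCategory AlgebraicGeometry Opposite

namespace Groth.Agent.PicfLib.AutDer

noncomputable section

variable {k : Type u} [Field k] {X T₀ T : Over (Spec (CommRingCat.of k))}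

theorem whisker_pr (j : T₀ ⟶ T) : (X ◁ j).left ≫ pr X T = pr X T₀ :=
  congrArg CommaMorphism.left (whiskerLeft_fst X j)

theorem whisker_sn (j : T₀ ⟶ T) : (X ◁ j).left ≫ sn X T = sn X T₀ ≫ j.left :=
  congrArg CommaMorphism.left (whiskerLeft_snd X j)

theorem isPullback_whisker (j : T₀ ⟶ T) : IsPullback (X ◁ j).left (sn X T₀) (sn X T) j.left := by
  refine IsPullback.of_right ?_ (whisker_sn j) (IsPullback.of_hasPullback X.hom T.hom)
  show IsPullback ((X ◁ j).left ≫ pr X T) (sn X T₀) X.hom (j.left ≫ T.hom)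
  rw [whisker_pr, Over.w j]
  exact IsPullback.of_hasPullback X.hom T₀.hom

theorem eq_fst_of_restrict [TopologicalSpace.NoetherianSpace ↥X.left] [IsAffine T.left] [IsAffine T₀.left]
    (hD : ∀ (D : OmegaSh.Der X.hom (Coh.structureModule X.left)) (U : X.left.Opens) (s : Γ(X.left, U)),
      D.app U s = 0)
    (j : T₀ ⟶ T) [Surjective j.left] (hφ : Function.Surjective j.left.appTop.hom)
    (hφ2 : RingHom.ker j.left.appTop.hom ^ 2 = ⊥)
    (ψ : X ⊗ T ⟶ X) (hψ : X ◁ j ≫ ψ = X ◁ j ≫ fst X T) : ψ = fst X T := by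
  have hψ' : (X ◁ j).left ≫ ψ.left = (X ◁ j).left ≫ pr X T := congrArg CommaMorphism.left hψ
  have : Surjective (X ◁ j).left :=
    MorphismProperty.of_isPullback (P := @Surjective) (isPullback_whisker j).flip ‹_›
  have hb : ∀ U, pr X T ⁻¹ᵁ U ≤ ψ.left ⁻¹ᵁ U := by
    intro U x hx
    obtain ⟨y, rfl⟩ := (X ◁ j).left.surjective x
    show ψ.left ((X ◁ j).left y) ∈ U
    rw [← Scheme.Hom.comp_apply, hψ', Scheme.Hom.comp_apply]
    exact hx
  apply Over.OverMorphism.ext
  refine eq_pr hb fun U => ?_
  obtain ⟨ι, e, he⟩ := exists_coord (isField_base (k := k)) (T.hom.appLE ⊤ ⊤ (by simp))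
  have hpo := fun U => isPushout_sections (X := X) (T := T) U
  let E : ∀ U : X.left.Opens, (ι →₀ Γ(X.left, U)) ≃+ Γ((X ⊗ T).left, pr X T ⁻¹ᵁ U) :=
    fun U => AddEquiv.ofBijective _ (he _ _ _ _ _ (hpo U)).1
  let δ : ∀ U : X.left.Opens, Γ(X.left, U) →+ Γ((X ⊗ T).left, pr X T ⁻¹ᵁ U) := fun U =>
    (ψ.left.appLE U _ (hb U)).hom.toAddMonoidHom - (iA X T U).hom.toAddMonoidHom
  have hδ : ∀ U s, δ U s = (ψ.left.appLE U _ (hb U)).hom s - (iA X T U).hom s := fun _ _ => rfl
  -- the difference vanishes after restriction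
  have hprod : ∀ (U : X.left.Opens) (a b : Γ(X.left, U)), δ U a * δ U b = 0 := by
    intro U
    have hle : pr X T₀ ⁻¹ᵁ U ≤ (X ◁ j).left ⁻¹ᵁ (pr X T ⁻¹ᵁ U) := by
      rw [← Scheme.Hom.comp_preimage, whisker_pr]
    let r := (X ◁ j).left.appLE (pr X T ⁻¹ᵁ U) (pr X T₀ ⁻¹ᵁ U) hle
    have hr : ∀ a, r.hom (δ U a) = 0 := by
      intro a
      rw [hδ, map_sub, sub_eq_zero]
      have h : ψ.left.appLE U _ (hb U) ≫ r = iA X T U ≫ r := by
        simp only [r, iA, Scheme.Hom.appLE_comp_appLE, hψ']
      exact congr($h a)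
    have h0 : IsPushout (X.hom.appLE ⊤ U (by simp)) (T.hom.appLE ⊤ ⊤ (by simp) ≫ j.left.appTop)
        (iA X T₀ U) (iB X T₀ U) := by
      have : T.hom.appLE ⊤ ⊤ (by simp) ≫ j.left.appTop = T₀.hom.appLE ⊤ ⊤ (by simp) := by
        rw [Scheme.Hom.appTop, Scheme.Hom.app_eq_appLE, Scheme.Hom.appLE_comp_appLE]
        simp [Over.w j]
      rw [this]
      exact isPushout_sections U
    have hA : iA X T U ≫ r = iA X T₀ U := by
      simp only [r, iA, Scheme.Hom.appLE_comp_appLE, whisker_pr]
    have hB : iB X T U ≫ r = j.left.appTop ≫ iB X T₀ U := by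
      simp only [r, iB, Scheme.Hom.appTop, Scheme.Hom.app_eq_appLE, Scheme.Hom.appLE_comp_appLE, whisker_sn]
      simp [Scheme.Hom.appLE_comp_appLE]
    exact fun a b => mul_eq_zero_of_restrict j.left.appTop r (hpo U) h0 hφ hφ2 hA hB (hr a) (hr b)
  have hmul : ∀ (U : X.left.Opens) (a b : Γ(X.left, U)),
      δ U (a * b) = (iA X T U).hom a * δ U b + (iA X T U).hom b * δ U a := by
    intro U a b
    have h := hprod U a b
    simp only [hδ, map_mul] at h ⊢
    linear_combination h
  have hres : ∀ (U V : X.left.Opens) (i : op U ⟶ op V) (x : Γ(X.left, U)),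
      (X ⊗ T).left.presheaf.map (homOfLE ((pr X T).preimage_mono i.unop.le)).op (δ U x) =
        δ V (X.left.presheaf.map i x) := by
    intro U V i x
    rw [hδ, hδ, map_sub]
    congr 1
    · have h : ψ.left.appLE U _ (hb U) ≫
          (X ⊗ T).left.presheaf.map (homOfLE ((pr X T).preimage_mono i.unop.le)).op =
          X.left.presheaf.map i ≫ ψ.left.appLE V _ (hb V) := by
        simp [Scheme.Hom.appLE_map, Scheme.Hom.map_appLE]
      exact congr($h x)
    · exact congr($(iA_res U V i) x)
  let D : ι → OmegaSh.Der X.hom (Coh.structureModule X.left) := fun n =>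
    { d := fun {U} => AddMonoidHom.mk'
        (fun s => (show Γ(X.left, U.unop) from ((E U.unop).symm (δ U.unop s)) n)) (fun a b => by
          show ((E U.unop).symm (δ U.unop (a + b))) n = ((E U.unop).symm (δ U.unop a)) n + ((E U.unop).symm (δ U.unop b)) n
          rw [map_add (δ U.unop), map_add, Finsupp.add_apply])
      d_mul := fun {U} a b => by
        show ((E U.unop).symm (δ U.unop (a * b))) n =
          a * ((E U.unop).symm (δ U.unop b)) n + b * ((E U.unop).symm (δ U.unop a)) n
        have : (E U.unop).symm (δ U.unop (a * b)) =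
            a • (E U.unop).symm (δ U.unop b) + b • (E U.unop).symm (δ U.unop a) := by
          apply (E U.unop).injective
          rw [map_add, AddEquiv.apply_symm_apply, hmul]
          refine congrArg₂ (· + ·) ?_ ?_ <;>
          · refine Eq.trans ?_ (sig_smul _ _ e _ _).symm
            exact congrArg _ ((E U.unop).apply_symm_apply _).symm
        rw [this, Finsupp.add_apply, Finsupp.smul_apply, Finsupp.smul_apply]
        rfl
      d_map := fun {U V} i x => by
        show ((E V.unop).symm (δ V.unop (X.left.presheaf.map i x))) n =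
          X.left.presheaf.map i (((E U.unop).symm (δ U.unop x)) n)
        have : (E V.unop).symm (δ V.unop (X.left.presheaf.map i x)) =
            ((E U.unop).symm (δ U.unop x)).mapRange (X.left.presheaf.map i).hom (map_zero _) := by
          rw [AddEquiv.symm_apply_eq, ← hres U.unop V.unop i x]
          refine Eq.trans ?_ (sig_map _ _ _ _ e _ _ (iA_res _ _ i) (iB_res _ _ i) _)
          exact congrArg _ ((E U.unop).apply_symm_apply _).symm
        rw [this, Finsupp.mapRange_apply]
      d_app := fun {V} a => by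
        show ((E _).symm (δ _ (X.hom.app V.unop a))) n = 0
        have : δ (X.hom ⁻¹ᵁ V.unop) (X.hom.app V.unop a) = 0 := by
          rw [hδ, sub_eq_zero]
          have h : X.hom.app V.unop ≫ ψ.left.appLE _ _ (hb _) = X.hom.app V.unop ≫ iA X T _ := by
            simp only [iA, Scheme.Hom.app_eq_appLE, Scheme.Hom.appLE_comp_appLE, Over.w ψ, Over.w (fst X T)]
          exact congr($h a)
        exact DFunLike.congr_fun ((congrArg (E _).symm this).trans (map_zero _)) n }
  ext s
  refine sub_eq_zero.1 ((E U).symm.map_eq_zero_iff.1 (Finsupp.ext fun n => ?_))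
  exact hD (D n) U s

end

end Groth.Agent.PicfLib.AutDer
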