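import Mathlib

/-! Coordinates in a pushout of rings over a field. -/

set_option autoImplicit false
set_option backward.isDefEq.respectTransparency false
set_option backward.isDefEq.respectTransparency.types false

universe u

open CategoryTheory

namespace Groth.Agent.PicfLib.AutDer

noncomputable section

variable {R A B C : CommRingCat.{u}}

/-- `(a_i) ↦ Σ a_i e_i`. -/
def sig {ι : Type u} (iA : A ⟶ C) (iB : B ⟶ C) (e : ι → B) : (ι →₀ A) →+ C :=
  Finsupp.liftAddHom fun i => (AddMonoidHom.mulRight (iB.hom (e i))).comp iA.hom.toAddMonoidHom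

@[simp] theorem sig_single {ι : Type u} (iA : A ⟶ C) (iB : B ⟶ C) (e : ι → B) (i : ι) (a : A) :
    sig iA iB e (Finsupp.single i a) = iA.hom a * iB.hom (e i) := by
  simp [sig]

/-- The coordinates are compatible with maps of pushouts. -/
theorem sig_map {ι : Type u} {A' C' : CommRingCat.{u}} (iA : A ⟶ C) (iB : B ⟶ C) (iA' : A' ⟶ C')
    (iB' : B ⟶ C') (e : ι → B) (ρ : A ⟶ A') (σ : C ⟶ C') (hA : iA ≫ σ = ρ ≫ iA')
    (hB : iB ≫ σ = iB') (x : ι →₀ A) :
    σ.hom (sig iA iB e x) = sig iA' iB' e (x.mapRange ρ.hom (map_zero _)) := by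
  induction x using Finsupp.induction_linear with
  | zero => simp
  | add x y hx hy =>
    rw [map_add, map_add, hx, hy, Finsupp.mapRange_add (map_add _), map_add]
  | single i a =>
    rw [sig_single, Finsupp.mapRange_single, sig_single, map_mul]
    exact congrArg₂ (· * ·) (congr($hA a)) (congr($hB (e i)))

theorem sig_smul {ι : Type u} (iA : A ⟶ C) (iB : B ⟶ C) (e : ι → B) (a : A) (x : ι →₀ A) :
    sig iA iB e (a • x) = iA.hom a * sig iA iB e x := by
  induction x using Finsupp.induction_linear with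
  | zero => simp
  | add x y hx hy => rw [smul_add, map_add, hx, hy, map_add, mul_add]
  | single i b =>
    rw [Finsupp.smul_single, sig_single, sig_single, smul_eq_mul, map_mul, mul_assoc]

/-- A ring over a field has elements giving coordinates in every pushout, and multiplication by a
nonzero element is injective on the other factor. -/
theorem exists_coord (hR : IsField R) (g : R ⟶ B) :
    ∃ (ι : Type u) (e : ι → B), ∀ (A C : CommRingCat.{u}) (f : R ⟶ A) (iA : A ⟶ C) (iB : B ⟶ C),
      IsPushout f g iA iB → Function.Bijective (sig iA iB e) ∧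
        ∀ (b : B) (a : A), b ≠ 0 → iA.hom a * iB.hom b = 0 → a = 0 := by
  let _ : Field R := hR.toField
  let _ : Algebra R B := g.hom.toAlgebra
  obtain ⟨ι, bas⟩ : ∃ ι : Type u, Nonempty (Module.Basis ι R B) :=
    ⟨_, ⟨Module.Free.chooseBasis R B⟩⟩
  obtain ⟨bas⟩ := bas
  refine ⟨ι, bas, fun A C f iA iB h => ?_⟩
  let _ : Algebra R A := f.hom.toAlgebra
  let _ : Algebra A C := iA.hom.toAlgebra
  let _ : Algebra B C := iB.hom.toAlgebra
  let _ : Algebra R C := (f ≫ iA).hom.toAlgebra
  have : IsScalarTower R A C := IsScalarTower.of_algebraMap_eq fun _ => rfl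
  have : IsScalarTower R B C := IsScalarTower.of_algebraMap_eq fun r => congr($h.w r)
  have hp : Algebra.IsPushout R A B C := CommRingCat.isPushout_iff_isPushout.mp h
  let bc := hp.out.basis bas
  have hbc : ∀ i, bc i = iB.hom (bas i) := fun i => IsBaseChange.basis_apply _ _ i
  have hsig : ∀ x, sig iA iB bas x = bc.repr.symm x := by
    intro x
    induction x using Finsupp.induction_linear with
    | zero => simp
    | add x y hx hy => rw [map_add, map_add, hx, hy]
    | single i a =>
      rw [sig_single, Module.Basis.repr_symm_single, hbc, Algebra.smul_def]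
      rfl
  refine ⟨?_, fun b a hb hab => ?_⟩
  · rw [funext hsig]
    exact bc.repr.symm.bijective
  · by_contra ha
    obtain ⟨i, hi⟩ : ∃ i, bas.repr b i ≠ 0 := by
      by_contra hh
      push Not at hh
      exact hb (bas.repr.map_eq_zero_iff.1 (Finsupp.ext hh))
    have key : iB.hom b = sig iA iB bas ((bas.repr b).mapRange f.hom (map_zero _)) := by
      conv_lhs => rw [← bas.linearCombination_repr b]
      generalize bas.repr b = x
      induction x using Finsupp.induction_linear with
      | zero => simp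
      | add x y hx hy =>
        rw [map_add, map_add, hx, hy, Finsupp.mapRange_add (map_add _), map_add]
      | single j c =>
        rw [Finsupp.linearCombination_single, Finsupp.mapRange_single, sig_single, Algebra.smul_def, map_mul]
        exact congrArg (· * _) (congr($h.w c)).symm
    rw [key, ← sig_smul, hsig] at hab
    have h0 := DFunLike.congr_fun (bc.repr.symm.map_eq_zero_iff.1 hab) i
    rw [Finsupp.smul_apply, Finsupp.mapRange_apply, smul_eq_mul, Finsupp.zero_apply] at h0
    exact ha ((IsUnit.mul_left_eq_zero ((isUnit_iff_ne_zero.2 hi).map f.hom)).1 h0)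

/-- The kernel of a restriction of pushouts along a square-zero thickening squares to zero. -/
theorem mul_eq_zero_of_restrict {B₀ C₀ : CommRingCat.{u}} {f : R ⟶ A} {g : R ⟶ B} {iA : A ⟶ C}
    {iB : B ⟶ C} {iA₀ : A ⟶ C₀} {iB₀ : B₀ ⟶ C₀} (φ : B ⟶ B₀) (r : C ⟶ C₀) (h : IsPushout f g iA iB)
    (h₀ : IsPushout f (g ≫ φ) iA₀ iB₀) (hφ : Function.Surjective φ.hom)
    (hφ2 : RingHom.ker φ.hom ^ 2 = ⊥) (hA : iA ≫ r = iA₀) (hB : iB ≫ r = φ ≫ iB₀)
    {x y : C} (hx : r.hom x = 0) (hy : r.hom y = 0) : x * y = 0 := by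
  let J : Ideal C := (RingHom.ker φ.hom).map iB.hom
  let q : C ⟶ CommRingCat.of (C ⧸ J) := CommRingCat.ofHom (Ideal.Quotient.mk J)
  let g0 : { g : (B : Type u) →+* C ⧸ J // RingHom.ker φ.hom ≤ RingHom.ker g } :=
    ⟨(Ideal.Quotient.mk J).comp iB.hom, fun b hb => by
      rw [RingHom.mem_ker, RingHom.comp_apply, Ideal.Quotient.eq_zero_iff_mem]
      exact Ideal.mem_map_of_mem _ hb⟩
  let d : B₀ ⟶ CommRingCat.of (C ⧸ J) := CommRingCat.ofHom (φ.hom.liftOfSurjective hφ g0)
  have hd : φ ≫ d = iB ≫ q := by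
    ext b
    exact RingHom.liftOfSurjective_comp_apply φ.hom hφ g0 b
  have hw : f ≫ iA ≫ q = (g ≫ φ) ≫ d := by
    rw [Category.assoc, hd, ← Category.assoc, ← Category.assoc, h.w]
  have hq : r ≫ h₀.desc (iA ≫ q) d hw = q := by
    apply h.hom_ext
    · rw [reassoc_of% hA, h₀.inl_desc]
    · rw [reassoc_of% hB, h₀.inr_desc, hd]
  have hmem : ∀ z, r.hom z = 0 → z ∈ J := fun z hz => by
    refine (Ideal.Quotient.eq_zero_iff_mem (I := J)).1 ?_
    refine (congr($hq z)).symm.trans ?_
    show (h₀.desc (iA ≫ q) d hw).hom (r.hom z) = 0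
    rw [hz, map_zero]
  have := Ideal.mul_mem_mul (hmem x hx) (hmem y hy)
  rw [← Ideal.map_mul, ← pow_two, hφ2, Ideal.map_bot] at this
  exact this

end

end Groth.Agent.PicfLib.AutDer
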