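import Groth.Agent.PicfLib.AutDer.Ring
import Groth.Prelude.Def_AutSch
import Groth.Prelude.Def_Omega3

/-! Sections of the base change of a noetherian scheme over a field along an affine scheme. -/

set_option autoImplicit false
set_option backward.isDefEq.respectTransparency false
set_option backward.isDefEq.respectTransparency.types false

universe u

open CategoryTheory MonoidalCategory CartesianMonoidalCategory AlgebraicGeometry Opposite
open CategoryTheory.Limits (pullback)

namespace Groth.Agent.PicfLib.AutDer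

noncomputable section

variable {k : Type u} [Field k] {X T : Over (Spec (CommRingCat.of k))}

theorem isField_base : IsField Γ(Spec (CommRingCat.of k), ⊤) :=
  (Scheme.ΓSpecIso (CommRingCat.of k)).commRingCatIsoToRingEquiv.toMulEquiv.isField (Field.toIsField k)

/-- The projection to `X`. -/
abbrev pr (X T : Over (Spec (CommRingCat.of k))) : (X ⊗ T).left ⟶ X.left := (fst X T).left

/-- The projection to `T`. -/
abbrev sn (X T : Over (Spec (CommRingCat.of k))) : (X ⊗ T).left ⟶ T.left := (snd X T).left

/-- The inclusion of the functions on `U`. -/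
abbrev iA (X T : Over (Spec (CommRingCat.of k))) (U : X.left.Opens) :
    Γ(X.left, U) ⟶ Γ((X ⊗ T).left, pr X T ⁻¹ᵁ U) := (pr X T).appLE U _ le_rfl

/-- The inclusion of the parameters. -/
abbrev iB (X T : Over (Spec (CommRingCat.of k))) (U : X.left.Opens) :
    Γ(T.left, ⊤) ⟶ Γ((X ⊗ T).left, pr X T ⁻¹ᵁ U) := (sn X T).appLE ⊤ _ (by simp)

theorem isPushout_sections [IsAffine T.left] [TopologicalSpace.NoetherianSpace ↥X.left] (U : X.left.Opens) :
    IsPushout (X.hom.appLE ⊤ U (by simp)) (T.hom.appLE ⊤ ⊤ (by simp)) (iA X T U) (iB X T U) := by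
  have H : IsPullback (pr X T) (sn X T) X.hom T.hom := IsPullback.of_hasPullback X.hom T.hom
  exact (isIso_pushoutSection_iff H (US := ⊤) (UT := ⊤) (UX := U) (UY := pr X T ⁻¹ᵁ U)
    (by simp) (by simp) (by simp)).1
    (isIso_pushoutSection_of_isQuasiSeparated_of_flat_right H (by simp) (by simp) (by simp)
      (isAffineOpen_top _) (isAffineOpen_top _) (TopologicalSpace.NoetherianSpace.isCompact _)
      fun _ _ _ _ _ _ _ _ => TopologicalSpace.NoetherianSpace.isCompact _)

theorem iA_res (U V : X.left.Opens) (i : op U ⟶ op V) :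
    iA X T U ≫ (X ⊗ T).left.presheaf.map (homOfLE ((pr X T).preimage_mono i.unop.le)).op =
      X.left.presheaf.map i ≫ iA X T V := by
  simp [iA, Scheme.Hom.appLE_map, Scheme.Hom.map_appLE]

theorem iB_res (U V : X.left.Opens) (i : op U ⟶ op V) :
    iB X T U ≫ (X ⊗ T).left.presheaf.map (homOfLE ((pr X T).preimage_mono i.unop.le)).op = iB X T V := by
  simp [iB, Scheme.Hom.appLE_map]

/-- A morphism is `pr` when it has the same map of spaces and the same effect on functions. -/
theorem eq_pr {ψ : (X ⊗ T).left ⟶ X.left} (hb : ∀ U, pr X T ⁻¹ᵁ U ≤ ψ ⁻¹ᵁ U)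
    (h : ∀ U, ψ.appLE U _ (hb U) = iA X T U) : ψ = pr X T := by
  refine Scheme.hom_ext_of_forall _ _ fun x => ?_
  obtain ⟨W, hW, hxW, -⟩ := exists_isAffineOpen_mem_and_subset (x := (pr X T) x) (U := ⊤) trivial
  refine ⟨pr X T ⁻¹ᵁ W, hxW, ?_⟩
  have hle := hb W
  rw [← Scheme.Hom.resLE_comp_ι ψ hle, ← Scheme.Hom.resLE_comp_ι (pr X T) le_rfl]
  congr 1
  have : IsAffine W.toScheme := hW
  apply ext_of_isAffine
  simp only [Scheme.Hom.appTop, Scheme.Hom.resLE_app_top, h W]

end

end Groth.Agent.PicfLib.AutDer
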